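import Mathlib.Algebra.MvPolynomial.Rename
import Mathlib.LinearAlgebra.Matrix.Determinant.Basic
import Mathlib.Data.Prod.Lex
import Mathlib.Order.Fin.Basic
import Mathlib.Order.WellFounded
import Mathlib.Algebra.BigOperators.Fin
import Mathlib.Algebra.CharP.Defs
import Mathlib.LinearAlgebra.LinearIndependent.Basic

/-!
# Alternants in two sets of variables
-/

set_option autoImplicit false

universe u

namespace GrothLib.SymRep28

open MvPolynomial

variable {k : Type u} [Field k] {n : ℕ}

/-- The alternant of a tuple of exponents. -/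
noncomputable def alternant (p : Fin n → ℕ × ℕ) : MvPolynomial (Fin n × Fin 2) k :=
  (Matrix.of fun i j : Fin n => (X (i, 0) : MvPolynomial (Fin n × Fin 2) k) ^ (p j).1 * X (i, 1) ^ (p j).2).det

/-- The exponent vector of a tuple. -/
noncomputable def expo (p : Fin n → ℕ × ℕ) : Fin n × Fin 2 →₀ ℕ :=
  Finsupp.equivFunOnFinite.symm fun v => if v.2 = 0 then (p v.1).1 else (p v.1).2

theorem monomial_expo (p : Fin n → ℕ × ℕ) :
    monomial (expo p) (1 : k) = ∏ j, (X (j, 0) : MvPolynomial (Fin n × Fin 2) k) ^ (p j).1 * X (j, 1) ^ (p j).2 := by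
  rw [monomial_eq, C_1, one_mul, Finsupp.prod_fintype _ _ (fun _ => pow_zero _), Fintype.prod_prod_type]
  refine Finset.prod_congr rfl fun j _ => ?_
  simp [Fin.prod_univ_two, expo]

theorem alternant_eq (p : Fin n → ℕ × ℕ) :
    alternant p = ∑ σ : Equiv.Perm (Fin n), ((Equiv.Perm.sign σ : ℤˣ) : ℤ) •
      rename (fun v : Fin n × Fin 2 => (σ v.1, v.2)) (monomial (expo p) (1 : k)) := by
  rw [alternant, Matrix.det_apply]
  refine Finset.sum_congr rfl fun σ _ => ?_
  rw [monomial_expo, map_prod, Units.smul_def]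
  refine congrArg _ (Finset.prod_congr rfl fun j _ => ?_)
  simp

theorem rename_alternant (p : Fin n → ℕ × ℕ) (σ : Equiv.Perm (Fin n)) :
    rename (fun v : Fin n × Fin 2 => (σ v.1, v.2)) (alternant (k := k) p) =
      ((Equiv.Perm.sign σ : ℤˣ) : ℤ) • alternant p := by
  rw [alternant, AlgHom.map_det, AlgHom.mapMatrix_apply]
  rw [show (Matrix.of fun i j : Fin n => (X (i, 0) : MvPolynomial (Fin n × Fin 2) k) ^ (p j).1 * X (i, 1) ^ (p j).2).map
      (rename (fun v : Fin n × Fin 2 => (σ v.1, v.2))) =
      (Matrix.of fun i j : Fin n => (X (i, 0) : MvPolynomial (Fin n × Fin 2) k) ^ (p j).1 * X (i, 1) ^ (p j).2).submatrix σ id from by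
    ext i j; simp]
  rw [Matrix.det_permute, zsmul_eq_mul]

theorem mem_span_iff [CharZero k] (f : MvPolynomial (Fin n × Fin 2) k) :
    (∀ σ : Equiv.Perm (Fin n),
        rename (fun v : Fin n × Fin 2 => (σ v.1, v.2)) f = ((Equiv.Perm.sign σ : ℤˣ) : ℤ) • f) ↔
      f ∈ Submodule.span k (Set.range (alternant (k := k) (n := n))) := by
  constructor
  · intro h
    have hsum : ∑ σ : Equiv.Perm (Fin n), ((Equiv.Perm.sign σ : ℤˣ) : ℤ) •
        rename (fun v : Fin n × Fin 2 => (σ v.1, v.2)) f = (n.factorial : ℕ) • f := by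
      rw [Finset.sum_congr rfl fun σ _ => show _ = f by
        rw [h σ, smul_smul, ← Units.val_mul, Int.units_mul_self, Units.val_one, one_smul]]
      rw [Finset.sum_const, Finset.card_univ, Fintype.card_perm, Fintype.card_fin]
    have hmem : (n.factorial : ℕ) • f ∈ Submodule.span k (Set.range (alternant (k := k) (n := n))) := by
      rw [← hsum]
      conv => arg 2; arg 2; ext σ; rw [f.as_sum, map_sum, Finset.smul_sum]
      rw [Finset.sum_comm]
      refine Submodule.sum_mem _ fun d _ => ?_
      have he : d = expo fun j => (d (j, 0), d (j, 1)) := by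
        ext ⟨j, c⟩
        fin_cases c <;> simp [expo]
      have : ∑ σ : Equiv.Perm (Fin n), ((Equiv.Perm.sign σ : ℤˣ) : ℤ) •
          rename (fun v : Fin n × Fin 2 => (σ v.1, v.2)) (monomial d (coeff d f)) =
          coeff d f • alternant (k := k) fun j => (d (j, 0), d (j, 1)) := by
        rw [alternant_eq, Finset.smul_sum, ← he]
        refine Finset.sum_congr rfl fun σ _ => ?_
        rw [show monomial d (coeff d f) = coeff d f • monomial d (1 : k) by
          rw [smul_monomial, smul_eq_mul, mul_one], map_smul, smul_comm]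
      rw [this]
      exact Submodule.smul_mem _ _ (Submodule.subset_span ⟨_, rfl⟩)
    rw [← Nat.cast_smul_eq_nsmul k] at hmem
    have h0 : (n.factorial : k) ≠ 0 := Nat.cast_ne_zero.mpr n.factorial_ne_zero
    simpa [smul_smul, inv_mul_cancel₀ h0] using Submodule.smul_mem _ (n.factorial : k)⁻¹ hmem
  · intro h σ
    induction h using Submodule.span_induction with
    | mem x hx => obtain ⟨p, rfl⟩ := hx; exact rename_alternant p σ
    | zero => simp
    | add x y _ _ hx hy => rw [map_add, hx, hy, smul_add]
    | smul c x _ hx => rw [map_smul, hx, smul_comm]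

theorem coeff_alternant (p q : {p : Fin n → ℕ ×ₗ ℕ // StrictMono p}) :
    coeff (expo fun j => ofLex (q.1 j)) (alternant (k := k) fun j => ofLex (p.1 j)) =
      if p = q then 1 else 0 := by
  classical
  have hinj : ∀ σ : Equiv.Perm (Fin n), Function.Injective fun v : Fin n × Fin 2 => (σ v.1, v.2) :=
    fun σ v w h => by
      obtain ⟨h1, h2⟩ := Prod.mk.injEq .. ▸ h
      exact Prod.ext (σ.injective h1) h2
  have key : ∀ σ : Equiv.Perm (Fin n),
      Finsupp.mapDomain (fun v : Fin n × Fin 2 => (σ v.1, v.2)) (expo fun j => ofLex (p.1 j)) =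
        expo (fun j => ofLex (q.1 j)) ↔ σ = 1 ∧ p = q := by
    intro σ
    constructor
    · intro h
      have hj : ∀ j, p.1 j = q.1 (σ j) := fun j => by
        have h0 := DFunLike.congr_fun h ((fun v : Fin n × Fin 2 => (σ v.1, v.2)) (j, 0))
        have h1 := DFunLike.congr_fun h ((fun v : Fin n × Fin 2 => (σ v.1, v.2)) (j, 1))
        rw [Finsupp.mapDomain_apply (hinj σ)] at h0 h1
        simp [expo] at h0 h1
        exact ofLex.injective (Prod.ext h0 h1)
      have hr : Set.range p.1 = Set.range q.1 := by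
        rw [show p.1 = q.1 ∘ σ from funext hj, EquivLike.range_comp]
      have hpq : p.1 = q.1 := (p.2.range_inj q.2).mp hr
      refine ⟨Equiv.ext fun j => q.2.injective ?_, Subtype.ext hpq⟩
      rw [← hj, hpq]; rfl
    · rintro ⟨rfl, rfl⟩
      exact Finsupp.mapDomain_id
  rw [alternant_eq, coeff_sum]
  simp only [rename_monomial, zsmul_eq_mul]
  by_cases h : p = q
  · rw [if_pos h, Finset.sum_eq_single (1 : Equiv.Perm (Fin n))]
    · subst h
      simp
      exact Finsupp.mapDomain_id
    · intro σ _ hσ
      rw [← map_intCast (C : k →+* MvPolynomial (Fin n × Fin 2) k), coeff_C_mul, coeff_monomial,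
        if_neg fun e => hσ ((key σ).mp e).1, mul_zero]
    · simp
  · rw [if_neg h]
    refine Finset.sum_eq_zero fun σ _ => ?_
    rw [← map_intCast (C : k →+* MvPolynomial (Fin n × Fin 2) k), coeff_C_mul, coeff_monomial,
      if_neg fun e => h ((key σ).mp e).2, mul_zero]

theorem linearIndependent_alternant :
    LinearIndependent k (fun p : {p : Fin n → ℕ ×ₗ ℕ // StrictMono p} =>
      alternant (k := k) fun j => ofLex (p.1 j)) := by
  classical
  refine linearIndependent_iff'.mpr fun s g hg q hq => ?_
  have := congrArg (coeff (expo fun j => ofLex (q.1 j))) hg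
  simp only [coeff_sum, coeff_smul, coeff_alternant, smul_eq_mul, mul_ite, mul_one, mul_zero,
    coeff_zero, Finset.sum_ite_eq', if_pos hq] at this
  exact this

end GrothLib.SymRep28
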