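import Mathlib.LinearAlgebra.ExteriorAlgebra.OfAlternating
import Mathlib.LinearAlgebra.Matrix.Determinant.Basic
import Mathlib.GroupTheory.Perm.Basic
import Mathlib.Tactic.Ring
import Mathlib.Algebra.CharZero.Defs

/-!
# The top wedge of two copies of the cycle space of the complete graph on four vertices
-/

set_option autoImplicit false

universe u

namespace GrothLib.SymRep28

/-- A signed triangle as an integral function of the two ends of an edge. -/
def tri (i j l : Fin 4) (a b : Fin 4) : ℤ :=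
  (if a = i ∧ b = j then 1 else 0) + (if a = j ∧ b = l then 1 else 0) + (if a = l ∧ b = i then 1 else 0)
    - (if a = j ∧ b = i then 1 else 0) - (if a = l ∧ b = j then 1 else 0) - (if a = i ∧ b = l then 1 else 0)

/-- The four rows. -/
def rowDat : Fin 4 → Fin 2 × Fin 4 × Fin 4 × Fin 4 :=
  ![(0, 0, 1, 2), (1, 0, 1, 2), (0, 0, 2, 3), (1, 0, 2, 3)]

/-- The four coordinates. -/
def colDat : Fin 4 → Fin 2 × Fin 4 × Fin 4 := ![(0, 0, 1), (1, 0, 1), (0, 0, 3), (1, 0, 3)]

/-- The integral matrix of a permuted wedge in the four coordinates. -/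
def intMat (σ : Equiv.Perm (Fin 4)) : Matrix (Fin 4) (Fin 4) ℤ :=
  Matrix.of fun r t => if (colDat t).1 = (rowDat r).1 then
    tri (σ (rowDat r).2.1) (σ (rowDat r).2.2.1) (σ (rowDat r).2.2.2) (colDat t).2.1 (colDat t).2.2 else 0

theorem sum_det_intMat_ne_zero : ∑ σ : Equiv.Perm (Fin 4), (intMat σ).det ≠ 0 := by
  decide +kernel

variable (k : Type u) [Field k]

local notation "F" => Fin 2 → Fin 4 → Fin 4 → k

theorem cycles_main [CharZero k]
    (P : Equiv.Perm (Fin 4) → (F →ₗ[k] F))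
    (hP : ∀ (σ : Equiv.Perm (Fin 4)) (f : F) (c : Fin 2) (a b : Fin 4),
      P σ f c a b = f c (σ.symm a) (σ.symm b))
    (z : Fin 2 → Fin 4 → Fin 4 → Fin 4 → F)
    (hz : ∀ (c : Fin 2) (i j l : Fin 4) (c' : Fin 2) (a b : Fin 4), z c i j l c' a b =
      if c' = c then
        ((if a = i ∧ b = j then 1 else 0) + (if a = j ∧ b = l then 1 else 0) + (if a = l ∧ b = i then 1 else 0)
          - (if a = j ∧ b = i then 1 else 0) - (if a = l ∧ b = j then 1 else 0) - (if a = i ∧ b = l then 1 else 0))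
      else 0)
    (ω : ExteriorAlgebra k F)
    (hω : ω = ExteriorAlgebra.ι k (z 0 0 1 2) * ExteriorAlgebra.ι k (z 1 0 1 2) *
      ExteriorAlgebra.ι k (z 0 0 2 3) * ExteriorAlgebra.ι k (z 1 0 2 3)) :
    ExteriorAlgebra.map (P (Equiv.swap 0 2)) ω = ω ∧
    ExteriorAlgebra.map (P (Equiv.swap 1 3)) ω = ω ∧
    (∑ σ : Equiv.Perm (Fin 4), ExteriorAlgebra.map (P σ) ω) ≠ 0 := by
  have hcast : ∀ c i j l c' a b, z c i j l c' a b = if c' = c then ((tri i j l a b : ℤ) : k) else 0 := by
    intro c i j l c' a b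
    rw [hz, tri]
    simp
  have hPz : ∀ σ c i j l, P σ (z c i j l) = z c (σ i) (σ j) (σ l) := by
    intro σ c i j l
    funext c' a b
    rw [hP, hz, hz]
    simp only [Equiv.symm_apply_eq]
  have hrev : ∀ c i j l, z c l j i = -z c i j l := by
    intro c i j l
    funext c' a b
    rw [Pi.neg_apply, Pi.neg_apply, Pi.neg_apply, hz, hz]
    split_ifs <;> ring
  have hrot : ∀ c i j l, z c j l i = z c i j l := by
    intro c i j l
    funext c' a b
    rw [hz, hz]
    split_ifs <;> ring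
  have anti : ∀ x y : F, ExteriorAlgebra.ι k y * ExteriorAlgebra.ι k x =
      -(ExteriorAlgebra.ι k x * ExteriorAlgebra.ι k y) := fun x y => by
    refine eq_neg_of_add_eq_zero_left ?_
    exact ExteriorAlgebra.ι_add_mul_swap _ _
  refine ⟨?_, ?_, fun h => ?_⟩
  · subst hω
    simp only [map_mul, ExteriorAlgebra.map_apply_ι, hPz]
    have e1 : ∀ c, z c (Equiv.swap (0 : Fin 4) 2 0) (Equiv.swap (0 : Fin 4) 2 1) (Equiv.swap (0 : Fin 4) 2 2) =
        -z c 0 1 2 := fun c => hrev c 0 1 2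
    have e2 : ∀ c, z c (Equiv.swap (0 : Fin 4) 2 0) (Equiv.swap (0 : Fin 4) 2 2) (Equiv.swap (0 : Fin 4) 2 3) =
        -z c 0 2 3 := fun c => (hrot c 3 2 0).trans (hrev c 0 2 3)
    simp only [e1, e2, map_neg, neg_mul, mul_neg, neg_neg]
  · subst hω
    simp only [map_mul, ExteriorAlgebra.map_apply_ι, hPz]
    have e1 : ∀ c, z c (Equiv.swap (1 : Fin 4) 3 0) (Equiv.swap (1 : Fin 4) 3 1) (Equiv.swap (1 : Fin 4) 3 2) =
        -z c 0 2 3 := fun c => (hrev c 2 3 0).trans (congrArg Neg.neg (hrot c 0 2 3))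
    have e2 : ∀ c, z c (Equiv.swap (1 : Fin 4) 3 0) (Equiv.swap (1 : Fin 4) 3 2) (Equiv.swap (1 : Fin 4) 3 3) =
        -z c 0 1 2 := fun c => (hrev c 1 2 0).trans (congrArg Neg.neg (hrot c 0 1 2))
    simp only [e1, e2, map_neg, neg_mul, mul_neg, neg_neg]
    set a := ExteriorAlgebra.ι k (z 0 0 1 2)
    set b := ExteriorAlgebra.ι k (z 1 0 1 2)
    set c := ExteriorAlgebra.ι k (z 0 0 2 3)
    set d := ExteriorAlgebra.ι k (z 1 0 2 3)
    calc c * d * a * b = c * (d * a) * b := by simp only [mul_assoc]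
      _ = -(c * a * (d * b)) := by rw [anti (z 0 0 1 2) (z 1 0 2 3)]; simp only [neg_mul, mul_neg, mul_assoc]; rfl
      _ = -(a * c * (b * d)) := by
        rw [anti (z 0 0 1 2) (z 0 0 2 3), anti (z 1 0 1 2) (z 1 0 2 3)]; simp only [neg_mul, mul_neg, neg_neg]; rfl
      _ = a * b * c * d := by
        rw [show a * c * (b * d) = a * (c * b) * d by simp only [mul_assoc], anti (z 1 0 1 2) (z 0 0 2 3)]
        simp only [neg_mul, mul_neg, neg_neg, mul_assoc]
        rfl
  · let f : F [⋀^Fin 4]→ₗ[k] k :=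
      (Matrix.detRowAlternating : (Fin 4 → k) [⋀^Fin 4]→ₗ[k] k).compLinearMap
        ({ toFun := fun g t => g (colDat t).1 (colDat t).2.1 (colDat t).2.2
           map_add' := fun g h => rfl
           map_smul' := fun r g => rfl } : F →ₗ[k] (Fin 4 → k))
    let fam : (i : ℕ) → F [⋀^Fin i]→ₗ[k] k := fun i => if hi : i = 4 then hi ▸ f else 0
    let Φ := ExteriorAlgebra.liftAlternating (R := k) (M := F) (N := k) fam
    have hωm : ω = ExteriorAlgebra.ιMulti k 4 ![z 0 0 1 2, z 1 0 1 2, z 0 0 2 3, z 1 0 2 3] := by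
      rw [hω, ExteriorAlgebra.ιMulti_apply]
      simp [List.ofFn_succ, mul_assoc]
    have hval : ∀ σ, Φ (ExteriorAlgebra.map (P σ) ω) = ((intMat σ).det : k) := by
      intro σ
      rw [hωm, ExteriorAlgebra.map_apply_ιMulti, ExteriorAlgebra.liftAlternating_apply_ιMulti]
      change f _ = _
      rw [← eq_intCast (Int.castRingHom k) (intMat σ).det, RingHom.map_det]
      refine congrArg (Matrix.det (R := k) (n := Fin 4)) (Matrix.ext fun r t => ?_)
      fin_cases r <;> simp [intMat, rowDat, colDat, hPz, hcast]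
    have h0 := congrArg Φ h
    rw [map_sum, map_zero, Finset.sum_congr rfl fun σ _ => hval σ, ← Int.cast_sum, Int.cast_eq_zero] at h0
    exact sum_det_intMat_ne_zero h0

end GrothLib.SymRep28
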